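import Cfsg.Agent.P.C6
import Cfsg.Agent.GW.LC2c
import Cfsg.Agent.GW.Cv1
import Cfsg.Agent.GW.Dg

/-! Simple groups with an element whose centralizer has order at most four. -/

set_option autoImplicit false
set_option linter.unusedVariables false
set_option linter.unusedSectionVars false

namespace P

open Cfsg Subgroup FT H4 H5 GW H8 H2

universe u

variable {G : Type u} [Group G] [Finite G] [IsSimpleGroup G] (hG : ¬ IsMulCommutative G)
include hG

theorem exists_other {S : Subgroup G} (hS : IsSylowOf 2 S ⊤) {z : G} (hz : orderOf z = 2)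
    (hc : S ≤ Cen1 z) : ∃ s ∈ S, orderOf s = 2 ∧ s ≠ z := by
  by_contra hn
  push Not at hn
  exact hG ⟨⟨H3.comm_of_isolated hz (H3.isolated_of_weaklyClosed (p := 2) ⟨1, by rw [pow_one, sq, ii hz]⟩
    (hS.of_le hc le_top) fun g hg => hn _ hg (iconj hz g))⟩⟩

variable {w : G} (h4 : orderOf w = 4) (hc : Cen1 w ≤ zpowers w)
include h4 hc

omit hG hc in
theorem four_cases {y : G} (hy : y ∈ zpowers w) : y = 1 ∨ y = w ∨ y = w * w ∨ y = w⁻¹ := by
  obtain ⟨i, rfl⟩ := mem_powers_iff_mem_zpowers.2 hy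
  have h1 : w ^ 4 = 1 := h4 ▸ pow_orderOf_eq_one w
  have h2 : i % 4 < 4 := Nat.mod_lt _ (by norm_num)
  simp only
  rw [← pow_mod_orderOf, h4]
  generalize i % 4 = j at h2
  interval_cases j
  · simp
  · simp
  · simp [sq]
  · exact Or.inr (Or.inr (Or.inr (eq_inv_of_mul_eq_one_left (by rw [← pow_succ, h1]))))

omit hG hc in
theorem ord_sq : orderOf (w * w) = 2 := by rw [← sq, orderOf_pow, h4]; rfl

omit hG in
theorem inv_of_nor {s : G} (h1 : s ∈ Nor (zpowers w)) (h2 : s ∉ zpowers w) : s * w * s⁻¹ = w⁻¹ := by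
  have h3 := oconj s w
  rcases four_cases h4 (cmem h1 (mem_zpowers w)) with e | e | e | e
  · rw [e, orderOf_one] at h3; omega
  · exact absurd (hc (c1'.2 e)) h2
  · rw [e, ord_sq h4] at h3; omega
  · exact e

theorem exists_inverter {S : Subgroup G} (hS : IsSylowOf 2 S ⊤) (hw : w ∈ S) :
    ∃ s ∈ S, orderOf s = 2 ∧ s ∈ Nor (zpowers w) ∧ s ∉ zpowers w := by
  have z2 := ord_sq h4
  have hz : ∀ y ∈ zpowers w, orderOf y = 2 → y = w * w := fun y hy h =>
    inv_uniq hy (mul_mem (mem_zpowers w) (mem_zpowers w)) h z2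
  obtain ⟨z, z1, z3, z4⟩ := exists_zinv hS.isPGroup fun e => by
    have := mem_bot.1 (e ▸ hw); rw [this, orderOf_one] at h4; omega
  obtain rfl := hz z (hc (c1s.1 (z4 hw))) z3
  obtain ⟨s, s1, s2, s3⟩ := exists_other hG hS z2 z4
  have s4 : s ∉ zpowers w := fun e => s3 (hz s e s2)
  rcases H7.exists_normal_four_or_cyclic_index hS.isPGroup with ⟨U, hU, h1, h2⟩ | ⟨⟨a, ha⟩, h1⟩
  · obtain ⟨u, u1, u2, u3⟩ : ∃ u ∈ U, u ≠ 1 ∧ (u : G) ≠ w * w := by
      by_contra hn
      push Not at hn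
      have : U ≤ zpowers ⟨w * w, z1⟩ := fun u hu => by
        by_cases e : u = 1
        · exact e ▸ one_mem _
        · exact (Subtype.ext (hn u hu e) : u = ⟨w * w, z1⟩) ▸ mem_zpowers _
      have h3 := card_le_of_le this
      rw [h2, Nat.card_zpowers, ← orderOf_coe, z2] at h3
      omega
    have u4 : (u : G) * u = 1 := by
      have := congrArg Subtype.val (h1.2 u u1)
      simpa [sq] using this
    have u5 := orderOf_eq_two' u4 fun e => u2 (Subtype.ext e)
    have u6 : (u : G) * (w * u * w⁻¹) = w * u * w⁻¹ * u := congrArg (fun y : U => ((y : S) : G))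
      (h1.1.is_comm.comm ⟨u, u1⟩ ⟨_, hU.conj_mem u u1 ⟨w, hw⟩⟩)
    have u7 : (u : G) * (w * u * w⁻¹) ∈ zpowers w := hc (c1s.1 (c1'.2 (by
      calc _ = w * u * w⁻¹ * (w * w * u * (w * w)⁻¹) := by group
        _ = _ := by rw [c1'.1 (c1s.1 (z4 u.2)), u6])))
    refine ⟨u, u.2, u5, mem_normalizer_of_conjS_le ?_, fun e => u3 (hz _ e u5)⟩
    rw [conjS, MonoidHom.map_zpowers, zpowers_le]
    simpa [mul_assoc, iinv u5] using mul_mem u7 (mem_zpowers w)
  have hi : (zpowers a).relIndex S ∣ 2 := by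
    rw [relIndex]
    convert h1 using 2
    ext y
    rw [mem_subgroupOf, mem_zpowers_iff, mem_zpowers_iff]
    simp [Subtype.ext_iff]
  have aA := mem_zpowers a
  have cA : ∀ {b c : G}, b ∈ zpowers a → c ∈ zpowers a → b * c = c * b := H9.comm_of_mem_zpowers
  rcases (Nat.dvd_prime Nat.prime_two).1 hi with hi | hi
  · exact absurd (hc (c1.2 (cA (relIndex_eq_one.1 hi s1) (relIndex_eq_one.1 hi hw)))) s4
  have aN : S ≤ Nor (zpowers a) := (normal_subgroupOf_iff_le_normalizer (zpowers_le.2 ha)).1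
    (normal_of_index_eq_two hi)
  by_cases wA : w ∈ zpowers a
  · have : zpowers a = zpowers w := le_antisymm (fun b hb => hc (c1.2 (cA hb wA))) (zpowers_le.2 wA)
    exact ⟨s, s1, s2, this ▸ aN s1, s4⟩
  exfalso
  have hd : ∀ y ∈ S, y ∉ zpowers a → ∀ y' ∈ S, y' ∉ zpowers a → y * y' ∈ zpowers a :=
    fun y hy hy' y' h5 h6 => (Dich.mul_mem_iff_of_relIndex hi hy h5).2 (iff_of_false hy' h6)
  have zA := hd w hw wA w hw wA
  have sA : ∀ y : G, orderOf y = 2 → y ≠ w * w → y ∉ zpowers a := fun y h2 h3 e =>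
    h3 (inv_uniq e zA h2 z2)
  have wA' : w⁻¹ ∉ zpowers a := fun e => wA (inv_mem_iff.1 e)
  have s5 := sA s s2 s3
  have hs : ∀ b ∈ zpowers a, s * b * s⁻¹ = w * b * w⁻¹ := fun b hb => by
    calc _ = w * (w⁻¹ * s * b * (w⁻¹ * s)⁻¹) * w⁻¹ := by group
      _ = _ := by rw [cA (hd _ (inv_mem hw) wA' s s1 s5) hb]; group
  have h5 := cmem (aN hw) aA
  have hp : ∀ n : ℕ, a ^ n * (w * a ^ n * w⁻¹) = (a * (w * a * w⁻¹)) ^ n := fun n => by
    rw [Commute.mul_pow (cA aA h5), conj_pow]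
  have hφ : a * (w * a * w⁻¹) = w * w := by
    have h6 : a * (w * a * w⁻¹) ∈ zpowers w := hc (c1s.1 (c1'.2 (by
      calc _ = w * a * w⁻¹ * (w * w * a * (w * w)⁻¹) := by group
        _ = _ := by rw [cA zA aA, mul_inv_cancel_right, cA h5 aA])))
    rcases four_cases h4 h6 with e | e | e | e
    · obtain ⟨n, hn⟩ := mem_powers_iff_mem_zpowers.2 (hd _ (inv_mem hw) wA' s s1 s5)
      have h7 := hp n
      simp only at hn
      rw [e, one_pow, hn] at h7
      refine absurd ?_ (ine z2)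
      calc w * w = w * w * (w⁻¹ * s * (w * (w⁻¹ * s) * w⁻¹)) := by rw [h7, mul_one]
        _ = w * (s * s) * w⁻¹ := by group
        _ = 1 := by rw [ii s2]; group
    · exact absurd (e ▸ mul_mem aA h5) wA
    · exact e
    · exact absurd (e ▸ mul_mem aA h5) wA'
  have par : ∀ d ∈ zpowers a, (d ∈ zpowers (a * a) ∧ d * (w * d * w⁻¹) = 1) ∨
      (d * a ∈ zpowers (a * a) ∧ d * (w * d * w⁻¹) = w * w) := fun d hd => by
    obtain ⟨n, rfl⟩ := mem_powers_iff_mem_zpowers.2 hd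
    simp only [hp, hφ]
    obtain ⟨k, rfl | rfl⟩ := n.even_or_odd'
    · exact Or.inl ⟨⟨k, by simp [pow_mul, sq]⟩, by rw [pow_mul, sq, ii z2, one_pow]⟩
    · exact Or.inr ⟨⟨(k + 1 : ℕ), by simp only [zpow_natCast]; rw [← sq, ← pow_mul, ← pow_succ]; rfl⟩,
        by rw [pow_succ, pow_mul, sq, ii z2, one_pow, one_mul]⟩
  have ev : ∀ d ∈ zpowers a, d * (w * d * w⁻¹) = 1 → d ∈ zpowers (a * a) := fun d hd e =>
    (par d hd).elim (·.1) fun h => absurd (h.2.symm.trans e) (ine z2)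
  have hle : zpowers (a * a) ≤ zpowers a := zpowers_le.2 (mul_mem aA aA)
  have ev' : ∀ d ∈ zpowers (a * a), d * (w * d * w⁻¹) = 1 := fun d hd => by
    obtain ⟨n, rfl⟩ := mem_powers_iff_mem_zpowers.2 hd
    simp only
    rw [← sq, ← pow_mul, hp, hφ, pow_mul, sq, ii z2, one_pow]
  have aA2 : a ∉ zpowers (a * a) := fun e => ine z2 (hφ.symm.trans (ev' a e))
  have hM : ∀ y ∈ zpowers (a * a) ⊔ zpowers s, y ∈ zpowers (a * a) ∨ (y * y = 1 ∧ y ∉ zpowers a) :=
    fun y hy => by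
      obtain ⟨c, h6, v, hv, rfl⟩ := (mem_sup_of_le_normalizer_left (zpowers_le.2 (mnor fun c h6 => by
        rw [hs c (hle h6), eq_inv_of_mul_eq_one_right (ev' c h6)]; exact inv_mem h6))).1 hy
      rcases mem_zp2 (ii s2) hv with rfl | rfl
      · exact Or.inl (by rwa [mul_one])
      · refine Or.inr ⟨?_, fun e => s5 ((mul_mem_cancel_left (hle h6)).1 e)⟩
        rw [← ev' c h6, ← hs c (hle h6), iinv s2]; group
  have sM : s ∈ zpowers (a * a) ⊔ zpowers s := mem_sup_right (mem_zpowers s)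
  obtain ⟨g, hg⟩ := transfer_large_order (fun H h2 => no_index_two hG H (normal_of_index_eq_two h2) h2)
    S (by rw [← Nat.not_even_iff_odd, even_iff_two_dvd, ← relIndex_top_right]; exact hS.not_dvd)
    (zpowers (a * a) ⊔ zpowers s) (relIndex_eq_two_iff.2 ⟨a, ha, fun b hb => by
      have h6 : b * a ∈ zpowers (a * a) ⊔ zpowers s ∨ b ∈ zpowers (a * a) ⊔ zpowers s := by
        by_cases e : b ∈ zpowers a
        · exact (par b e).symm.imp (mem_sup_left ·.1) (mem_sup_left ·.1)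
        · exact (par _ (hd s s1 s5 b hb e)).symm.imp
            (fun h => (mul_mem_cancel_left sM).1 (mul_assoc s b a ▸ mem_sup_left h.1))
            fun h => (mul_mem_cancel_left sM).1 (mem_sup_left h.1)
      have h7 : ¬ (b * a ∈ zpowers (a * a) ⊔ zpowers s ∧ b ∈ zpowers (a * a) ⊔ zpowers s) := fun h =>
        (hM a ((mul_mem_cancel_left h.2).1 h.1)).elim aA2 fun h => h.2 aA
      unfold Xor
      tauto⟩) 2 (fun y hy hy' => by
        by_contra h6
        have h7 := orderOf_pos y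
        obtain h8 | h8 : orderOf y = 1 ∨ orderOf y = 2 := by omega
        · exact hy' (orderOf_eq_one_iff.1 h8 ▸ one_mem _)
        by_cases e : y ∈ zpowers a
        · rw [inv_uniq e zA h8 z2] at hy'
          exact hy' (mem_sup_left (ev _ zA (by rw [← ii z2]; group)))
        · have h9 := hd s s1 s5 y hy e
          refine hy' ((mul_mem_cancel_left sM).1 (mem_sup_left (ev _ h9 ?_)))
          rw [← hs _ h9, ← mul_assoc s s, ii s2, iinv s2]
          calc _ = s * (y * y) * s := by group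
            _ = 1 := by rw [ii h8, mul_one, ii s2]) w h4
  rcases hM _ hg with h6 | h6
  · have h7 := conjS_mono g hc
    rw [conj_c1, conjS, MonoidHom.map_zpowers] at h7
    exact aA2 (zpowers_le.2 h6 (h7 (c1.2 (cA aA (hle h6)))))
  · have h7 := orderOf_dvd_of_pow_eq_one (n := 2) ((sq _).trans h6.1)
    rw [oconj, h4] at h7
    omega

theorem four_main : C567 G ∨ IsA7 G := by
  have hw2 : IsPGroup 2 (zpowers w) := IsPGroup.of_card (n := 2) (by rw [Nat.card_zpowers, h4]; rfl)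
  obtain ⟨S, hS, hw⟩ := exists_isSylowOf_ge hw2 le_top
  obtain ⟨s, s1, s2, s3, s4⟩ := exists_inverter hG h4 hc hS (zpowers_le.1 hw)
  have wW := mem_zpowers w
  have hmul : ∀ y ∈ Nor (zpowers w), y ∉ zpowers w → ∀ y' ∈ Nor (zpowers w), y' ∉ zpowers w →
      y * y' ∈ zpowers w := fun y a b y' c d => hc (c1'.2 (by
    rw [show y * y' * w * (y * y')⁻¹ = y * (y' * w * y'⁻¹) * y⁻¹ by group, inv_of_nor h4 hc c d,
      ← conj_inv, inv_of_nor h4 hc a b, inv_inv]))
  have hsq : ∀ y ∈ Nor (zpowers w), y ∉ zpowers w → y * y = 1 := fun y a b => by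
    obtain ⟨i, hi⟩ := hmul s s3 s4 y a b
    simp only at hi
    rw [show y = s * w ^ i by rw [hi, ← mul_assoc, ii s2, one_mul],
      show s * w ^ i * (s * w ^ i) = s * w ^ i * s⁻¹ * w ^ i by rw [iinv s2]; group, ← conj_zpow,
      inv_of_nor h4 hc s3 s4]
    group
  have hN : S ≤ Nor (zpowers w) := by
    by_contra hn
    obtain ⟨y, hy, hy'⟩ := SetLike.exists_of_lt (lt_inf_normalizer_of_isPGroup
      (P := S ⊓ Nor (zpowers w)) hS.isPGroup
      (lt_of_le_not_ge inf_le_left fun e => hn (e.trans inf_le_right)))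
    refine hy' ⟨hy.1, mem_normalizer_of_conjS_le ?_⟩
    rw [conjS, MonoidHom.map_zpowers, zpowers_le]
    by_contra h1
    have h2 := orderOf_dvd_of_pow_eq_one (n := 2) ((sq _).trans
      (hsq _ (cmem hy.2 ⟨hw wW, le_normalizer wW⟩).2 h1))
    rw [oconj, h4] at h2
    omega
  obtain ⟨T, rfl⟩ := hS.exists_sylow_top
  have hD : D2 G := D2_of_sylow T fun y a b => ⟨hsq y (hN a) b, inv_of_nor h4 hc (hN a) b,
    fun y' c d => hmul y (hN a) b y' (hN c) d⟩
  refine (gwThm G hG hD).imp_left fun hL => ?_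
  obtain ⟨q, τ, σ, F⟩ := lfacts hD ⊤ (by
    rw [Cen, coe_top, centralizer_univ]; exact H8.center_eq_bot_of_simple hG)
    (let ⟨F, a, b, c, d, ⟨e⟩⟩ := hL; ⟨F, a, b, c, d, ⟨topEquiv.trans e⟩⟩)
  have z2 := ord_sq h4
  have zW := mul_mem wW wW
  have hz : ∀ y ∈ Nor (zpowers w), y ∈ Cen1 (w * w) := fun y hy =>
    c1'.2 (inv_uniq (cmem hy zW) zW (iconj z2 y) z2)
  have hinv : ∀ y ∈ Nor (zpowers w), y ∉ zpowers w → ∀ x ∈ Kt ⊤ (w * w), y * x * y⁻¹ = x⁻¹ :=
    fun y a b => F.inv _ y z2 (orderOf_eq_two' (hsq y a b) fun e => b (e ▸ one_mem _))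
      (c1.1 (hz y a)).symm fun e => b (e ▸ zW)
  have hT : IsPGroup 2 (Cen1 (w * w)) := by
    refine H5.isPGroup_of_forall_prime fun x hx e => ?_
    have h3 : x ∈ Kt ⊤ (w * w) := subset_closure ⟨mem_top x, c1.1 hx, odd_iff_cop.2 e⟩
    have h5 := hinv (s * w) (mul_mem s3 (le_normalizer wW))
      (fun e => s4 ((mul_mem_cancel_right wW).1 e)) x h3
    rw [← hinv s s3 s4 x h3, show s * w * x * (s * w)⁻¹ = s * (w * x * w⁻¹) * s⁻¹ by group,
      mul_left_inj, mul_right_inj] at h5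
    have h6 := (zpowers w).orderOf_dvd_natCard (hc (c1s.1 (c1'.2 h5)))
    rw [Nat.card_zpowers, h4] at h6
    exact orderOf_eq_one_iff.1 (Nat.eq_one_of_dvd_coprimes (e.pow_right 2) dvd_rfl h6)
  have hE : Cen1 (w * w) = T := hS.eq_of_le hT (fun y hy => hz y (hN hy)) le_top
  refine of_card_eight hG z2 (hE ▸ hS) (isD8_of ?_ (fun hm => s4 (hc (c1.2 (congrArg Subtype.val
    (mul_comm' (⟨s, hz s s3⟩ : Cen1 (w * w)) ⟨w, hz w (le_normalizer wW)⟩)))))
    (a := w * w) (b := s) ⟨z2, s2, (c1.1 (hz s s3)).symm, fun e => s4 (e ▸ zW)⟩ (c1.2 rfl) (hz s s3))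
  rw [hE, ← H5.card_mul_relIndex hw, Nat.card_zpowers, h4, relIndex_eq_two_iff.2 ⟨s, s1, fun b hb => ?_⟩]
  by_cases e : b ∈ zpowers w
  · exact Or.inr ⟨e, fun e' => s4 ((mul_mem_cancel_left e).1 e')⟩
  · exact Or.inl ⟨hmul b (hN hb) e s s3 s4, e⟩

omit h4 hc in
theorem main (se : BS.SEThm.{u}) (hw : Nat.card (Cen1 w) ≤ 4) : C567 G ∨ IsA7 G := by
  have h1 := (Cen1 w).orderOf_dvd_natCard (c1.2 rfl : w ∈ Cen1 w)
  have h2 : 0 < Nat.card (Cen1 w) := Nat.card_pos
  have h3 : ∀ n, orderOf w = n → 4 < 2 * n → Cen1 w ≤ zpowers w := fun n a b =>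
    (eq_of_le_of_card_ge (zpowers_le.2 (c1.2 rfl)) (by
      obtain ⟨k, hk⟩ := h1
      rw [Nat.card_zpowers, hk]
      rcases k with _ | _ | k <;> nlinarith)).ge
  have h5 := Nat.le_of_dvd h2 h1
  have h6 := orderOf_pos w
  obtain h | h | h | h : orderOf w = 1 ∨ orderOf w = 2 ∨ orderOf w = 3 ∨ orderOf w = 4 := by omega
  · rw [orderOf_eq_one_iff.1 h, show Cen1 (1 : G) = ⊤ from eq_top_iff.2 fun g _ => c1.2 (by simp),
      card_top] at hw h2
    obtain h | h | h | h : Nat.card G = 2 ^ 0 ∨ Nat.card G = 2 ^ 1 ∨ Nat.card G = 3 ^ 1 ∨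
      Nat.card G = 2 ^ 2 := by omega
    all_goals exact absurd (IsPGroup.of_card h) (not_isPGroup_of_simple hG _)
  · obtain ⟨S, hS, hw'⟩ := exists_isSylowOf_ge (two_zp h) le_top
    rw [h] at h1
    obtain h7 | h7 : Nat.card (Cen1 w) = 2 ∨ Nat.card (Cen1 w) = 4 := by omega
    · have h8 : zpowers w = Cen1 w := eq_of_le_of_card_ge (zpowers_le.2 (c1.2 rfl))
        (by rw [h7, Nat.card_zpowers, h])
      obtain ⟨z, z1, z3, z4⟩ := exists_zinv hS.isPGroup fun e =>
        ine h (mem_bot.1 (e ▸ hw' (mem_zpowers w)))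
      obtain rfl := inv_uniq (h8.ge (c1s.1 (z4 (hw' (mem_zpowers w))))) (mem_zpowers w) z3 h
      obtain ⟨s, s1, s2, s3⟩ := exists_other hG hS h z4
      exact absurd (inv_uniq (h8.ge (z4 s1)) (mem_zpowers z) s2 h) s3
    · have h8 : IsPGroup 2 (Cen1 w) := IsPGroup.of_card (n := 2) h7
      obtain ⟨s, s1, s2, s3⟩ := exists_other hG (sylow_top_of_four (no_index_two hG) h
        ⟨le_rfl, h8, by simp⟩ h7) h le_rfl
      have f : F4 w s := ⟨h, s2, (c1.1 s1).symm, s3⟩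
      have h9 := eq_of_le_of_card_ge (V_le (c1.2 rfl) s1 : V4 w s ≤ Cen1 w) (by rw [h7, f.card_V])
      refine Or.inl (Or.inl (a5_of_normal_four se h h9.le (H9.isKleinFour_iff.2 ⟨f.card_V,
        fun d hd => by rw [sq, F4.sq_V f hd]⟩) ?_ (h9 ▸ le_normalizer)))
      rw [h9, relIndex_self]; norm_num
  · exact Or.inl (three hG se ⟨h, h3 3 h (by norm_num)⟩)
  · exact four_main hG h (h3 4 h (by norm_num))

end P
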