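import Cfsg.Agent.P.C5
import Cfsg.Agent.H1.Bsw8
import Cfsg.Agent.H2.Ord64

/-! Simple groups with a self-centralizing element of order three (Feit-Thompson 1962). -/

set_option autoImplicit false
set_option linter.unusedVariables false
set_option linter.unusedSectionVars false

namespace P

open Cfsg Subgroup FT H4 H5 GW H8 H2
open scoped MatrixGroups

universe u

theorem isD8_dih : H1.IsD8 (DihedralGroup 4) :=
  ⟨DihedralGroup.nat_card, .r 1, .sr 0, by simp, by simp, fun ⟨k, hk⟩ => by simp at hk, by decide⟩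

variable {G : Type u} [Group G] [Finite G]

theorem isD8_of {C : Subgroup G} (h8 : Nat.card C = 8) (hn : ¬ IsMulCommutative C) {a b : G}
    (f : F4 a b) (ha : a ∈ C) (hb : b ∈ C) : H1.IsD8 C := by
  obtain ⟨⟨e⟩⟩ | ⟨⟨e⟩⟩ := D8_or_Q8 (IsPGroup.of_card (n := 3) h8) h8.le hn
  · exact isD8_dih.of_equiv e
  · have key : ∀ x y : QuaternionGroup 2, x * x = 1 → y * y = 1 → x = 1 ∨ y = 1 ∨ x = y := by decide
    rcases key (e ⟨a, ha⟩) (e ⟨b, hb⟩) (by rw [← map_mul, e.map_eq_one_iff]; exact Subtype.ext (ii f.ht))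
      (by rw [← map_mul, e.map_eq_one_iff]; exact Subtype.ext (ii f.ha)) with h | h | h
    · exact absurd (congrArg Subtype.val (e.map_eq_one_iff.1 h)) (ine f.ht)
    · exact absurd (congrArg Subtype.val (e.map_eq_one_iff.1 h)) (ine f.ha)
    · exact absurd (congrArg Subtype.val (e.injective h)).symm f.ne

/-- the possible conclusions -/
def C567 (G : Type u) [Group G] : Prop := Nonempty (G ≃* alternatingGroup (Fin 5)) ∨
  Nonempty (G ≃* alternatingGroup (Fin 6)) ∨ Nonempty (G ≃* PSL(2, ZMod 7))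

theorem ncard_le {U : Subgroup G} : ((U : Set G) \ {1}).ncard + 1 = Nat.card U := by
  rw [Set.ncard_sdiff_singleton_add_one (one_mem U)]; rfl

theorem F4.sq_V {a b y : G} (f : F4 a b) (hy : y ∈ V4 a b) : y * y = 1 := by
  rcases f.mem_V.1 hy with rfl | rfl | rfl | rfl
  exacts [mul_one _, ii f.ht, ii f.ha, f.sq]

variable [IsSimpleGroup G] (hG : ¬ IsMulCommutative G)
include hG

theorem of_card_eight {z : G} (hz : orderOf z = 2) (hS : IsSylowOf 2 (Cen1 z) ⊤)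
    (h : H1.IsD8 (Cen1 z)) : C567 G := by
  rcases H1.A6_or_psl7 (fun H h2 => no_index_two hG H (normal_of_index_eq_two h2) h2) hz
    (by rw [← Nat.not_even_iff_odd, even_iff_two_dvd, ← relIndex_top_right]; exact hS.not_dvd)
    h with h1 | h1
  exacts [Or.inr (Or.inl h1), Or.inr (Or.inr h1.2)]

variable (se : BS.SEThm.{u}) {w t : G} (h : SC w) (e : t * w * t⁻¹ = w⁻¹)
include h e

include se in
theorem fin6 {U U' : Subgroup G} (h1 : Nat.card U = 4) (h2 : Nat.card U' = 4)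
    (h3 : ∀ u, orderOf u = 2 → (u * w) ^ 3 = 1 → u ∈ U ∨ u ∈ U') : C567 G := by
  obtain ⟨hc, n, m, a, a1, a2, a3, a4, a5⟩ := h.exists_num hG e
  obtain ⟨u, hu, h4⟩ := h.exists_u hG
  obtain ⟨f, h5⟩ := h.four hu h4
  have h6 := a5 _ ⟨h5, nd_two f.two_V⟩ fun d hd => F4.sq_V f hd
  have h7 := (a4 ((U \ {1}) ∪ (U' \ {1})) fun v a b =>
    (h3 v a b).imp (⟨·, ine a⟩) (⟨·, ine a⟩)).trans (Nat.cast_le.2 (Set.ncard_union_le _ _))
  have h8 := ncard_le (U := U)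
  have h9 := ncard_le (U := U')
  rw [f.card_V] at h6
  have h10 := num1 (by push_cast at h7; omega) (by push_cast at h6; omega) a1 a2 a3
  have hV : V4 u (w * u * w⁻¹) ≤ Cen1 u := V_le (c1.2 rfl) f.aH
  have h11 := card_dvd_of_le hV
  have h12 := h.nd_cen hu
  rw [← H9.card_Cen_of_isConj (hc u hu)] at h10
  rw [f.card_V] at h11
  have h13 : 0 < Nat.card (Cen1 u) := Nat.card_pos
  change ((Nat.card (Cen1 u) : ℕ) : ℤ) < 16 at h10
  obtain h14 | h14 : Nat.card (Cen1 u) = 4 ∨ Nat.card (Cen1 u) = 8 := by omega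
  · have h15 := eq_of_le_of_card_ge hV (by rw [h14, f.card_V])
    refine Or.inl (a5_of_normal_four se hu hV (H9.isKleinFour_iff.2 ⟨f.card_V, fun d hd => by
      rw [sq, F4.sq_V f hd]⟩) ?_ (h15 ▸ le_normalizer))
    rw [h15, relIndex_self]; norm_num
  · have h15 : IsPGroup 2 (Cen1 u) := IsPGroup.of_card (n := 3) h14
    obtain ⟨S, hS, h16⟩ := exists_isSylowOf_ge h15 le_top
    obtain ⟨z, z1, z2, z3⟩ := exists_zinv hS.isPGroup fun e => ine hu (mem_bot.1 (e ▸ h16 (c1.2 rfl)))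
    refine of_card_eight hG hu (hS.of_card_le h15 le_top ((card_le_of_le z3).trans
      ((H9.card_Cen_of_isConj ((hc u hu).symm.trans (hc z z2))).le)))
      (isD8_of h14 (fun hm => ?_) f (c1.2 rfl) f.aH)
    have h17 : Cen1 (w * u * w⁻¹) = Cen1 u := (eq_of_le_of_card_ge (fun g hg => c1.2
      (congrArg Subtype.val (mul_comm' (⟨g, hg⟩ : Cen1 u) ⟨_, f.aH⟩))) (H9.card_Cen_conj u w).le).symm
    have := I3.card_mod h ⟨mem_normalizer_iff_conjS.2 (by rw [conj_c1, h17]), h12⟩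
    omega

theorem caseB (na : NA G) {P : Subgroup G} (g : Good w P) {z u : G} (z1 : z ∈ P)
    (z2 : orderOf z = 2) (z3 : P ≤ Cen1 z) (u1 : u ∈ P) (u2 : orderOf u = 2)
    (u3 : u ∉ V4 z (w * z * w⁻¹)) : False := by
  obtain ⟨hc, n, m, a, a1, a2, a3, a4, a5⟩ := h.exists_num hG e
  obtain ⟨K, s⟩ := g.exists_str
  have k := g.i3
  have h0 : P ≠ ⊥ := fun e => ine z2 (mem_bot.1 (e ▸ z1))
  obtain ⟨f, nV⟩ := k.four h z2 z1
  have hV4 := f.card_V
  have hVP : V4 z (w * z * w⁻¹) ≤ P := V_le z1 (cmem g.nor z1)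
  have hVc : ∀ y ∈ V4 z (w * z * w⁻¹), P ≤ Cen1 y := fun y hy => cen_iff_le.1
    (le_cen_symm (cen_V z _ ▸ le_inf z3 (le_cen_conj g.nor z3)) hy)
  have hVz := t_V z (w * z * w⁻¹)
  have hVs : ∀ y ∈ V4 z (w * z * w⁻¹), y * y = 1 := fun y hy => F4.sq_V f hy
  generalize V4 z (w * z * w⁻¹) = V at *
  have big : ∀ E ≤ P, w ∈ Nor E → V < E → 16 ≤ Nat.card E := fun E h1 h2 h3 => by
    obtain ⟨i, hi⟩ := H7.card_eq_pow_of_le (g.two.to_le h1)
    have h4 := (k.sub h1 h2).card_mod h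
    have h5 := card_lt_of_lt h3
    rw [hi] at h4 h5 ⊢
    rw [hV4] at h5
    rcases Nat.lt_or_ge i 4 with h6 | h6
    · interval_cases i <;> omega
    · exact Nat.pow_le_pow_right two_pos h6
  have h16 : 16 ≤ m + 15 * a := by
    obtain ⟨f', nU⟩ := k.four h u2 u1
    have hU : V4 u (w * u * w⁻¹) ≤ P := V_le u1 (cmem g.nor u1)
    have h1 := sup_le hVP hU
    have h2 := big _ h1 (msup nV nU) (lt_of_le_not_ge le_sup_left fun e =>
      u3 (e (mem_sup_right (t_V _ _))))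
    have h3 := a5 _ (k.sub h1 (msup nV nU)) fun d hd => by
      obtain ⟨v, hv, y, hy, rfl⟩ := (mem_sup_of_le_normalizer_left (hU.trans (cnor
        fun p hp => cen.2 fun v hv => c1.1 (hVc v hv hp)))).1 hd
      rw [mul_assoc, ← mul_assoc y, c1.1 (hVc v hv (hU hy)), mul_assoc, F4.sq_V f' hy, mul_one,
        hVs v hv]
    have h4 : (16 : ℤ) ≤ Nat.card ↥(V ⊔ V4 u (w * u * w⁻¹)) := by exact_mod_cast h2
    rcases le_or_gt a 0 with h5 | h5 <;> nlinarith
  have hn := num2 (by exact_mod_cast Nat.card_pos) h16 a1 a3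
  have hcc : ∀ y, orderOf y = 2 → Nat.card (Cen1 y) = Nat.card (Cen1 t) := fun y hy =>
    H9.card_Cen_of_isConj (hc y hy)
  have hP : IsSylowOf 2 P ⊤ := by
    obtain ⟨S, hS, l⟩ := exists_isSylowOf_ge g.two le_top
    by_cases h1 : S ≤ P
    · rwa [le_antisymm l h1]
    have h2 := mem_normalizer_iff_conjS.1 (g.t_mem e hS.isPGroup l h1)
    have h3 := a4 P fun v a b => (na.mem g e h0 a b).elim id fun c => h2 ▸ c
    obtain ⟨y, y1, y2, y3⟩ := exists_zinv hS.isPGroup fun e => h1 (e ▸ bot_le)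
    have h4 := (card_le_of_le y3).trans (hcc y y2).le
    obtain ⟨j, hj⟩ := card_dvd_of_le l
    have h5 : 2 ≤ j := by
      have := card_lt_of_lt (lt_of_le_not_ge l h1)
      by_contra h6
      interval_cases j <;> omega
    have h6 : Nat.card P * 2 ≤ Nat.card S := hj ▸ Nat.mul_le_mul_left _ h5
    change n ≤ (Nat.card P : ℕ) at h3
    omega
  have hcP : Nat.card (Cen1 t) = Nat.card P := by
    have h1 := (a4 (P ∪ conjS t P) fun v a b => na.mem g e h0 a b).trans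
      (Nat.cast_le.2 (Set.ncard_union_le _ _))
    have h2 := H5.card_mul_relIndex z3
    have h3 := (hP.of_le z3 le_top).not_dvd
    change n ≤ ((Nat.card P + Nat.card (conjS t P) : ℕ) : ℤ) at h1
    rw [card_conjS] at h1
    rw [hcc z z2] at h2
    have h4 : Nat.card P * P.relIndex (Cen1 z) < Nat.card P * 3 := by omega
    have h5 := Nat.lt_of_mul_lt_mul_left h4
    obtain h6 : P.relIndex (Cen1 z) = 1 := by omega
    rw [← h2, h6, mul_one]
  have hCP : ∀ y, orderOf y = 2 → P ≤ Cen1 y → Cen1 y = P := fun y h1 h2 =>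
    (eq_of_le_of_card_ge h2 (by rw [hcc y h1, hcP])).symm
  have hZ : ∀ y ∈ P, y * y = 1 → P ≤ Cen1 y → y ∈ V := fun y h1 h2 h3 => by
    by_cases h4 : y = 1
    · exact h4 ▸ one_mem _
    have h5 := orderOf_eq_two' h2 h4
    obtain ⟨x, rfl⟩ := isConj_iff.1 ((hc z z2).symm.trans (hc y h5))
    have h6 : x ∈ Nor P := mem_normalizer_iff_conjS.2 (by
      nth_rewrite 1 [← hCP z z2 z3]; rw [conj_c1, hCP _ h5 h3])
    obtain ⟨c, hc', v, hv, rfl⟩ := s.dec x h6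
    have h7 := (mul_mem_cancel_left (s.nor hc')).1 h6
    rcases h.nor_cases hv with h8 | h8
    · have h9 := cmem (zpowers_le.2 nV h8) hVz
      rwa [show c * v * z * (c * v)⁻¹ = c * (v * z * v⁻¹) * c⁻¹ by group,
        c1'.1 (s.cen g (hVP h9) (hVc _ h9) hc')]
    · have h9 : v ∈ P := zpowers_le.1 (hP.le_of_le_normalizer' (two_zp (h.ord_inv h8)) le_top
        (zpowers_le.2 h7))
      have h10 := mul_mem h9 (cmem g.nor (inv_mem h9))
      rw [← mul_assoc, ← mul_assoc, h8, h.inv.sq_eq, inv_inv] at h10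
      exact absurd h10 (k.nmem h)
  have sq : ∀ {w' : G} {Q : Subgroup G}, SC w' → I3 w' Q → ∀ y ∈ Q, orderOf y = 2 → ∀ b ∈ Q,
      b * b ∈ Cen1 y := fun a b y hy h1 c hc => b.sq_symm a hc hy (ii h1 ▸ one_mem _)
  have idx : ∀ y ∈ P, orderOf y = 2 → y ∉ V → Nat.card ↥(P ⊓ Cen1 y) * 4 = Nat.card P :=
    fun y h1 h2 h3 => by
      have h4 := k.idx_le h hZ le_rfl h1 (sq h k y h1 h2)
      have h5 := k.cen_index_ne h h1
      have h6 : (Cen1 y).relIndex P ≠ 1 := fun e => h3 (hZ y h1 (ii h2) (relIndex_eq_one.1 e))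
      obtain ⟨i, hi⟩ := g.two.index ((Cen1 y).subgroupOf P)
      have h7 := H5.card_mul_relIndex (inf_le_left : P ⊓ Cen1 y ≤ P)
      rw [inf_relIndex_left] at h7
      rw [relIndex, hi] at h4 h5 h6 h7
      rw [hV4] at h4
      obtain rfl : i = 2 := by
        have := (Nat.pow_le_pow_iff_right (a := 2) (m := 2) one_lt_two).1 h4
        interval_cases i <;> simp at h5 h6 ⊢
      exact h7
  have elem : ∀ y ∈ P, orderOf y = 2 → y ∉ V → (∀ d ∈ P ⊓ Cen1 y, P ⊓ Cen1 y ≤ Cen1 d) ∧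
      ∀ d ∈ P ⊓ Cen1 y, d * d = 1 := fun y h1 h2 h3 => by
    obtain ⟨x, rfl⟩ := isConj_iff.1 ((hc z z2).symm.trans (hc y h2))
    have k' := (g.cj x).i3
    rw [show conjS x P = Cen1 (x * z * x⁻¹) by rw [← conj_c1, hCP z z2 z3]] at k'
    have triv : ∀ c ∈ P, P ≤ Cen1 c → Cen1 (x * z * x⁻¹) ≤ Cen1 c → c = 1 := fun c a b d => by
      by_contra h4
      obtain ⟨v, h5, h6⟩ := exists_inv_mem (g.two.to_le (zpowers_le.2 a)) fun e =>
        h4 (zpowers_eq_bot.1 e)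
      have h7 : Cen1 c ≤ Cen1 v := fun p hp => c1s.1 (zpowers_le.2 (c1s.1 hp) h5)
      have h8 := eq_of_le_of_card_ge (d.trans (h7.trans (hCP v h6 (b.trans h7)).le))
        (by rw [hcc _ h2, hcP])
      exact h3 (hZ _ h1 (ii h2) h8.ge)
    have h4 : ∀ d ∈ P ⊓ Cen1 (x * z * x⁻¹), P ⊓ Cen1 (x * z * x⁻¹) ≤ Cen1 d := fun d hd b hb =>
      c1'.2 (mul_inv_eq_one.1 (triv _ (mul_mem (cmem (le_normalizer hb.1) hd.1)
        (inv_mem hd.1)) (k.comm_cen h hd.1 hb.1) (k'.comm_cen (h.cj x) hd.2 hb.2)))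
    refine ⟨h4, fun d hd => ?_⟩
    refine triv _ (mul_mem hd.1 hd.1) (fun b hb => c1s.1 (k.sq_symm h hd.1 hb (h4 d hd
      ⟨mul_mem hb hb, sq h k _ h1 h2 b hb⟩))) fun b hb => c1s.1 (k'.sq_symm (h.cj x) hd.2 hb (h4 d hd
      ⟨hCP z z2 z3 ▸ sq (h.cj x) k' z (c1s.1 (z3 h1)) z2 b hb, mul_mem hb hb⟩))
  have same : ∀ y ∈ P, orderOf y = 2 → y ∉ V → ∀ v ∈ P ⊓ Cen1 y, v ∉ V →
      P ⊓ Cen1 v = P ⊓ Cen1 y := fun y h1 h2 h3 v h4 h5 => by
    have h6 := idx v h4.1 (orderOf_eq_two' ((elem y h1 h2 h3).2 v h4) fun e => h5 (e ▸ one_mem _)) h5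
    have h7 := idx y h1 h2 h3
    exact (eq_of_le_of_card_ge (le_inf inf_le_left ((elem y h1 h2 h3).1 v h4)) (by omega)).symm
  have hVD : ∀ y ∈ P, V ≤ P ⊓ Cen1 y := fun y hy v hv => ⟨hVP hv, c1s.1 (hVc v hv hy)⟩
  have meet : ∀ b ∈ P, b ∉ Cen1 u → P ⊓ Cen1 u ⊓ Cen1 b = V := fun b h1 h2 =>
    le_antisymm (fun v hv => by
      by_contra h3
      exact h2 ((same u u1 u2 u3 v hv.1 h3).le ⟨h1, c1s.1 hv.2⟩).2)
      (le_inf (hVD u u1) ((hVD b h1).trans inf_le_right))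
  have c16 : Nat.card ↥(P ⊓ Cen1 u) = 16 := by
    obtain ⟨b, h1, h2⟩ := SetLike.not_le_iff_exists.1 fun e => u3 (hZ u u1 (ii u2) e)
    have h3 := k.idx_le h hZ (inf_le_left : P ⊓ Cen1 u ≤ P) h1 fun d hd =>
      (elem u u1 u2 u3).2 d hd ▸ one_mem _
    have h4 := H5.card_mul_relIndex (inf_le_left : P ⊓ Cen1 u ⊓ Cen1 b ≤ P ⊓ Cen1 u)
    rw [inf_relIndex_left, meet b h1 h2] at h4
    have h5 : w * u * w⁻¹ ∉ V := fun e => u3 (by simpa [mul_assoc] using cmem' nV e)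
    refine le_antisymm (by rw [← h4, hV4] at *; omega) (big _ inf_le_left
      (mem_normalizer_iff_conjS.2 ?_) (lt_of_le_not_ge (hVD u u1) fun e => u3 (e ⟨u1, c1.2 rfl⟩)))
    rw [conjS_inf, mem_normalizer_iff_conjS.1 g.nor, conj_c1]
    exact same u u1 u2 u3 _ ⟨cmem g.nor u1, (k.four h u2 u1).1.aH⟩ h5
  have c64 : Nat.card P = 64 := by rw [← idx u u1 u2 u3, c16]
  obtain ⟨T, hT, hT'⟩ : ∃ T : Set G, T.ncard ≤ 27 ∧ ∀ y ∈ P, orderOf y = 2 → y ∈ T := by
    have h1 := ncard_le (U := P ⊓ Cen1 u)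
    by_cases hx : ∃ x ∈ P, orderOf x = 2 ∧ x ∉ Cen1 u
    · obtain ⟨x, x1, x2, x3⟩ := hx
      have x4 : x ∉ V := fun e => x3 (hVD u u1 e).2
      have h2 := idx x x1 x2 x4
      have h3 : P ⊓ Cen1 u ⊓ (P ⊓ Cen1 x) = V := by rw [← meet x x1 x3]; ext; simp; tauto
      have h4 : P ≤ Nor (P ⊓ Cen1 u) := fun p hp => mnor fun d hd => by
        have := hVD u u1 (hZ _ (mul_mem (cmem (le_normalizer hp) hd.1) (inv_mem hd.1))
          ((k.sq_iff h hd.1 hp).1 ((elem u u1 u2 u3).1 d hd ⟨mul_mem hp hp, sq h k u u1 u2 p hp⟩))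
          (k.comm_cen h hd.1 hp))
        exact (mul_mem_cancel_right (inv_mem hd)).1 this
      have h5 := H5.card_sup_mul_card_inf (inf_le_left.trans h4 : P ⊓ Cen1 x ≤ _)
      rw [h3, hV4, c16] at h5
      have h6 := eq_of_le_of_card_ge (sup_le inf_le_left inf_le_left :
        P ⊓ Cen1 u ⊔ P ⊓ Cen1 x ≤ P) (by omega)
      refine ⟨(↑(P ⊓ Cen1 u) \ {1}) ∪ (↑(P ⊓ Cen1 x) \ V), (Set.ncard_union_le _ _).trans ?_,
        fun y h7 h8 => ?_⟩
      · have h7 := Set.ncard_sdiff_add_ncard_of_subset (SetLike.coe_subset_coe.2 (hVD x x1))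
        change _ + Nat.card V = Nat.card ↥(P ⊓ Cen1 x) at h7
        omega
      · by_cases h9 : y ∈ Cen1 u
        · exact Or.inl ⟨⟨h7, h9⟩, ine h8⟩
        obtain ⟨d, hd, d', hd', rfl⟩ := (mem_sup_of_le_normalizer_left (inf_le_left.trans h4)).1
          (h6.ge h7)
        have h10 : d' ∉ V := fun e => h9 (mul_mem hd (hVD u u1 e)).2
        refine Or.inr ⟨mul_mem ((same x x1 x2 x4 d' hd' h10).le ⟨hd.1, c1.2 ?_⟩) hd', fun e =>
          h9 (hVD u u1 e).2⟩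
        rw [← iinv h8, mul_inv_rev, inv_eq_of_mul_eq_one_left ((elem u u1 u2 u3).2 d hd),
          inv_eq_of_mul_eq_one_left ((elem x x1 x2 x4).2 d' hd')]
    · refine ⟨↑(P ⊓ Cen1 u) \ {1}, by omega, fun y h2 h3 => ⟨⟨h2, ?_⟩, ine h3⟩⟩
      by_contra h4
      exact hx ⟨y, h2, h3, h4⟩
  have h1 := (a4 (T ∪ (fun y => t * y * t⁻¹) '' T) fun v a b => (na.mem g e h0 a b).imp
    (hT' v · a) fun c => ⟨_, hT' _ (mem_conjS.1 c) (by rw [H9.orderOf_conj', a]), by group⟩).trans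
      (Nat.cast_le.2 ((Set.ncard_union_le _ _).trans (Nat.add_le_add hT
        ((Set.ncard_image_le).trans hT))))
  rw [hcP, c64] at a2 a3
  exact num3 h1 h16 a1 a2 a3

omit e in
include se in
theorem three : C567 G := by
  by_cases na : NA G
  · obtain ⟨t, e⟩ := h.exists_inv hG
    obtain ⟨u, hu, h1⟩ := h.exists_u hG
    obtain ⟨P, g, h0, -⟩ := h.mem_good hu h1
    obtain ⟨z, z1, z2, z3⟩ := exists_zinv g.two h0
    have key : ∀ u ∈ P, orderOf u = 2 → u ∈ V4 z (w * z * w⁻¹) := fun u a b => by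
      by_contra c
      exact caseB hG h e na g z1 z2 z3 a b c
    have f := (g.i3.four h z2 z1).1
    refine fin6 hG se h e f.card_V ((card_conjS t _).trans f.card_V) fun v a b =>
      (na.mem g e h0 a b).imp (key v · a) fun c => mem_conjS.2 (key _ (mem_conjS.1 c) ?_)
    rw [H9.orderOf_conj', a]
  · simp only [NA, not_forall] at na
    obtain ⟨w, P, T, g, h1, h2, h3, h4⟩ := na
    obtain ⟨t, e⟩ := g.sc.exists_inv hG
    obtain ⟨U, h5, h6⟩ := caseA g e h1 h2 h3 h4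
    exact fin6 hG se g.sc e h3 h5 h6

end P
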