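import Cfsg.Agent.P.C4

/-! Self-centralizing elements of order three: numerics and the global setting. -/

set_option autoImplicit false
set_option linter.unusedVariables false
set_option linter.unusedSectionVars false

namespace P

open Cfsg Subgroup FT H4 H5 GW H8 H2

theorem num1 {n c m a : ℤ} (hn : n ≤ 6) (h1 : 4 ≤ m + 3 * a) (h2 : 3 * a + 4 ≤ m)
    (h3 : 1 + a ^ 2 + (a + 1) ^ 2 ≤ c)
    (h : n * (m - a) ^ 2 = c * (m ^ 2 + 2 * m + a * (2 * m + 1))) : c < 16 := by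
  by_contra hc
  have h4 : 3 * (m - a) ^ 2 < 16 * (m ^ 2 + 2 * m + a * (2 * m + 1)) := by
    rcases le_total 0 a with h5 | h5 <;> nlinarith
  have h5 : n * (m - a) ^ 2 ≤ 6 * (m - a) ^ 2 := by nlinarith [sq_nonneg (m - a)]
  have h6 : c < 32 := by nlinarith [sq_nonneg (m - a)]
  have h7 : 16 * (m ^ 2 + 2 * m + a * (2 * m + 1)) ≤ 6 * (m - a) ^ 2 := by
    nlinarith [sq_nonneg (m - a)]
  have h8 : -4 ≤ a := by nlinarith
  have h9 : a ≤ 3 := by nlinarith
  interval_cases a <;> nlinarith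

theorem num2 {n c m a : ℤ} (hc : 0 < c) (h1 : 16 ≤ m + 15 * a) (h2 : 3 * a + 4 ≤ m)
    (h : n * (m - a) ^ 2 = c * (m ^ 2 + 2 * m + a * (2 * m + 1))) : 2 * c < 3 * n := by
  have h4 : 2 * (m - a) ^ 2 < 3 * (m ^ 2 + 2 * m + a * (2 * m + 1)) := by
    rcases le_total 0 a with h5 | h5 <;> nlinarith
  by_contra hn
  nlinarith [sq_nonneg (m - a)]

theorem num3 {n m a : ℤ} (hn : n ≤ 54) (h1 : 16 ≤ m + 15 * a) (h2 : 3 * a + 4 ≤ m)
    (h3 : 1 + a ^ 2 + (a + 1) ^ 2 ≤ 64)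
    (h : n * (m - a) ^ 2 = 64 * (m ^ 2 + 2 * m + a * (2 * m + 1))) : False := by
  have h5 : 64 * (m ^ 2 + 2 * m + a * (2 * m + 1)) ≤ 54 * (m - a) ^ 2 := by
    nlinarith [sq_nonneg (m - a)]
  have h8 : -6 ≤ a := by nlinarith
  have h9 : a ≤ -4 := by by_contra h0; rcases le_total 0 a with h5 | h5 <;> nlinarith
  have h10 : m ≤ 131 := by nlinarith
  interval_cases a
  · have : 106 ≤ m := by omega
    interval_cases m <;> omega
  · have : 91 ≤ m := by omega
    have : m ≤ 107 := by nlinarith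
    interval_cases m <;> omega
  · have : 76 ≤ m := by omega
    have : m ≤ 84 := by nlinarith
    interval_cases m <;> omega

variable {G : Type*} [Group G] [Finite G]

namespace I3
variable {w : G} {K : Subgroup G} (h : SC w) (k : I3 w K)
include h k

theorem comm_cen {x b : G} (hx : x ∈ K) (hb : b ∈ K) : K ≤ Cen1 (b * x * b⁻¹ * x⁻¹) :=
  fun a ha => c1'.2 (k.class_two h hx ha hb)

theorem sq_iff {x b : G} (hx : x ∈ K) (hb : b ∈ K) :
    b * b ∈ Cen1 x ↔ (b * x * b⁻¹ * x⁻¹) * (b * x * b⁻¹ * x⁻¹) = 1 := by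
  rw [c1', show b * b * x * (b * b)⁻¹ = b * (b * x * b⁻¹ * x⁻¹) * b⁻¹ * (b * x * b⁻¹ * x⁻¹) * x by
    group, k.class_two h hx hb hb, mul_eq_right]

theorem sq_symm {x b : G} (hx : x ∈ K) (hb : b ∈ K) (e : b * b ∈ Cen1 x) : x * x ∈ Cen1 b := by
  rw [k.sq_iff h hx hb] at e
  rw [k.sq_iff h hb hx, ← inv_eq_one, ← e]; group

theorem idx_le {V R : Subgroup G} (hV : ∀ y ∈ K, y * y = 1 → K ≤ Cen1 y → y ∈ V) (hR : R ≤ K)
    {x : G} (hx : x ∈ K) (hs : ∀ b ∈ R, b * b ∈ Cen1 x) : (Cen1 x).relIndex R ≤ Nat.card V := by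
  let f : R →* G :=
    { toFun := fun b => b * x * (b : G)⁻¹ * x⁻¹
      map_one' := by simp
      map_mul' := fun a b => by
        rw [c1.1 (k.comm_cen h hx (hR b.2) (mul_mem (cmem (le_normalizer (hR a.2)) hx)
          (inv_mem hx))), ← k.class_two h hx (hR a.2) (hR b.2)]
        push_cast; group }
  have h1 : f.ker = (Cen1 x).subgroupOf R := by
    ext b; rw [MonoidHom.mem_ker, mem_subgroupOf, c1']; exact mul_inv_eq_one
  rw [relIndex, ← h1, index_ker]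
  refine card_le_of_le ?_
  rintro _ ⟨b, rfl⟩
  exact hV _ (mul_mem (cmem (le_normalizer (hR b.2)) hx) (inv_mem hx))
    ((k.sq_iff h hx (hR b.2)).1 (hs b b.2)) (k.comm_cen h hx (hR b.2))

end I3

theorem SC.nd_cen {w u : G} (h : SC w) (hu : orderOf u = 2) : ¬ 3 ∣ Nat.card (Cen1 u) := fun hd => by
  obtain ⟨y, hy, e⟩ := exists_orderOf_eq_prime_mem hd
  have h1 := h.sc_three (y := y) (e ▸ pow_orderOf_eq_one y) fun e' => by
    rw [e', orderOf_one] at e; omega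
  have h2 := (zpowers y).orderOf_dvd_natCard (h1.cen (c1s.1 hy))
  rw [hu, h1.card_zp] at h2
  omega

variable [IsSimpleGroup G] (hG : ¬ IsMulCommutative G) {w : G} (h : SC w)
include hG h

theorem SC.ne_top : zpowers w ≠ ⊤ := fun e => hG (by
  have := isCyclic_of_prime_card (p := 3) (by rw [← card_top, ← e, h.card_zp] : Nat.card G = 3)
  exact IsCyclic.isMulCommutative)

theorem SC.exists_inv : ∃ t, t * w * t⁻¹ = w⁻¹ := by
  by_contra ht
  have h1 := Burnside_normal_complement h.syl (fun n hn => (cen_zp w).ge (h.cen_eq.ge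
    ((h.nor_cases hn.2).resolve_right fun e => ht ⟨n, e⟩)))
  rcases (normal_of_top_le_normalizer (le_normalizer_pPrimeCoreIn 3 (⊤ : Subgroup G))).eq_bot_or_eq_top with e | e
  · exact h.ne_top hG (by rw [← h1.sup, e, bot_sup_eq])
  · exact h.ne (zpowers_eq_bot.1 (by rw [← h1.inf, e, top_inf_eq]))

theorem SC.exists_u : ∃ u, orderOf u = 2 ∧ (u * w) ^ 3 = 1 := by
  by_contra hn
  obtain ⟨K, hK, h1, h2⟩ := h.lemX fun u a b => hn ⟨u, a, b⟩
  rcases hK.eq_bot_or_eq_top with rfl | rfl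
  · refine normalizer_ne_top (zpowers w) (fun e => h.ne (zpowers_eq_bot.1 e)) (h.ne_top hG)
      (eq_top_iff.2 fun g _ => ?_)
    obtain ⟨k, hk, n, hn, rfl⟩ := h2 g
    rwa [mem_bot.1 hk, one_mul]
  · exact h1 (h.ord ▸ (⊤ : Subgroup G).orderOf_dvd_natCard (mem_top w))

/-- the numerical data -/
theorem SC.exists_num {t : G} (e : t * w * t⁻¹ = w⁻¹) : (∀ u, orderOf u = 2 → IsConj t u) ∧
    ∃ n m a : ℤ, 3 * a + 4 ≤ m ∧ 1 + a ^ 2 + (a + 1) ^ 2 ≤ Nat.card (Cen1 t) ∧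
      n * (m - a) ^ 2 = Nat.card (Cen1 t) * (m ^ 2 + 2 * m + a * (2 * m + 1)) ∧
      (∀ T : Set G, (∀ u, orderOf u = 2 → (u * w) ^ 3 = 1 → u ∈ T) → n ≤ T.ncard) ∧
      ∀ E : Subgroup G, I3 w E → (∀ d ∈ E, d * d = 1) →
        (Nat.card E : ℤ) ≤ m + (Nat.card E - 1) * a := by
  have := Fintype.ofFinite G
  obtain ⟨b⟩ := h.exists_blk e
  have hval : ∀ u, orderOf u = 2 → ∃ a : ℤ, b.α.1 u = a := fun u hu =>
    char_involution_int (irr_isCharacter b.α.2) (by rw [sq, ii hu])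
  have hc : ∀ u, orderOf u = 2 → IsConj t u := fun u hu => by
    obtain ⟨a, ha⟩ := hval u hu
    have h1 := b.tt_eq h hu ha
    have h2 : npairs u u w ≠ 0 := fun h2 => by
      rw [h2, Nat.cast_zero, zero_mul, eq_comm, mul_eq_zero, pow_eq_zero_iff two_ne_zero,
        sub_eq_zero] at h1
      rcases h1 with h1 | h1
      · exact index_ne_zero_of_finite (by exact_mod_cast h1)
      · exact ine hu (irr_faithful_of_simple b.α.2 (fun e => b.nα (Subtype.ext e))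
          (by rw [ha, deg_eq, b.dα, ← h1]; simp))
    obtain ⟨⟨x, y⟩, h3, h4, h5⟩ := (Nat.card_ne_zero.1 h2).1
    have h6 := (H9.orderOf_of_isConj h3).trans hu
    have h7 := (H9.orderOf_of_isConj h4).trans hu
    simp only at h5 h6 h7
    refine (h.isConj_inv e (n := x) ?_).trans h3.symm
    rw [← h5, mul_inv_rev, iinv h6, iinv h7, ← mul_assoc, ii h6, one_mul]
  obtain ⟨a, ha⟩ := hval t (h.ord_inv e)
  refine ⟨hc, npairs t w w, b.m, a, (b.bounds h e ha).1, b.sq_le h (h.ord_inv e) ha,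
    b.n3_eq h e ha, fun T hT => by exact_mod_cast np_le (h.ord_inv e) h T hT, fun E k hE =>
    b.fixed_le h k.nor (fun d hd => k.cube h hd) (k.nmem h) fun d hd h1 => ?_⟩
  obtain ⟨g, rfl⟩ := isConj_iff.1 (hc d (orderOf_eq_two' (hE d hd) h1))
  rw [char_isClassFunction (irr_isCharacter b.α.2), ha]

end P
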